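import Groth.Agent.KrullAki.Basic
import Mathlib.RingTheory.Valuation.LocalSubring
import Mathlib.RingTheory.Localization.AsSubring
import Mathlib.RingTheory.Ideal.KrullsHeightTheorem
import Mathlib.RingTheory.DiscreteValuationRing.TFAE
import Mathlib.RingTheory.Ideal.Height

/-!
# Discrete valuation rings with prescribed centre
-/

universe u

namespace Groth.Agent.Rat20Lib

variable {K : Type u} [Field K]

lemma isFractionRing_subalgebra {A : Type u} [CommRing A] [Algebra A K] [IsFractionRing A K]
    (B : Subalgebra A K) : IsFractionRing B K := by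
  refine IsFractionRing.of_field B K fun z => ?_
  obtain ⟨a, b, -, hab⟩ := IsFractionRing.div_surjective (A := A) z
  exact ⟨algebraMap A B a, algebraMap A B b, hab.symm⟩

/-- A Noetherian valuation subring which is not the whole field is a discrete valuation ring. -/
lemma isDVR_of_isNoetherianRing (V : ValuationSubring K) [IsNoetherianRing V] {x : K} (hx : x ∉ V) :
    IsDiscreteValuationRing V := by
  have hnf : ¬ IsField V := fun h => by
    rcases V.mem_or_inv_mem x with hx' | hx'
    · exact hx hx'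
    · have hx0 : (⟨x⁻¹, hx'⟩ : V) ≠ 0 := fun h0 => hx (by
        have : x⁻¹ = 0 := congrArg Subtype.val h0
        rw [inv_eq_zero] at this
        exact this ▸ V.zero_mem)
      obtain ⟨⟨y, hy⟩, hxy⟩ := h.mul_inv_cancel hx0
      have hxy' : x⁻¹ * y = 1 := congrArg Subtype.val hxy
      rw [eq_inv_of_mul_eq_one_right hxy', inv_inv] at hy
      exact hx hy
  exact ((IsDiscreteValuationRing.TFAE V hnf).out 1 0 rfl rfl).mp inferInstance

/-- Given a Noetherian domain `A` with fraction field `K` and a valuation subring containing `A` with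
non-zero centre, some discrete valuation subring of `K` contains `A` with the same centre. -/
theorem exists_dvr_same_centre {A : Type u} [CommRing A] [IsDomain A] [IsNoetherianRing A]
    [Algebra A K] [IsFractionRing A K] (V₀ : ValuationSubring K) (hV₀ : ∀ a : A, algebraMap A K a ∈ V₀)
    (hne : ∃ a : A, a ≠ 0 ∧ algebraMap A K a ∈ V₀.nonunits) :
    ∃ V : ValuationSubring K, IsDiscreteValuationRing V ∧
      ∀ a : A, algebraMap A K a ∈ V ∧
        (algebraMap A K a ∈ V.nonunits ↔ algebraMap A K a ∈ V₀.nonunits) := by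
  classical
  let f : A →+* V₀ := (algebraMap A K).codRestrict V₀.toSubring hV₀
  let q₀ : Ideal A := (IsLocalRing.maximalIdeal V₀).comap f
  have hq₀ : ∀ a, a ∈ q₀ ↔ algebraMap A K a ∈ V₀.nonunits :=
    fun a => (ValuationSubring.coe_mem_nonunits_iff (a := f a)).symm
  obtain ⟨s, hs⟩ := IsNoetherian.noetherian q₀
  obtain ⟨a₀, ha₀, ha₀'⟩ := hne
  have hs0 : ∃ x ∈ s, x ≠ 0 := by
    by_contra h
    simp only [not_exists, not_and, not_not] at h
    apply ha₀
    have hb : q₀ = ⊥ := by rw [← hs, Submodule.span_eq_bot]; exact fun x hx => h x hx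
    simpa [hb] using (hq₀ a₀).2 ha₀'
  obtain ⟨x, hx, hmax⟩ := s.exists_max_image (fun y => V₀.valuation (algebraMap A K y))
    ⟨hs0.choose, hs0.choose_spec.1⟩
  have hx0 : algebraMap A K x ≠ 0 := by
    intro h
    obtain ⟨z, hz, hz0⟩ := hs0
    have := hmax z hz
    rw [h, map_zero, le_zero_iff, Valuation.zero_iff] at this
    exact hz0 ((injective_iff_map_eq_zero _).1 (IsFractionRing.injective A K) z this)
  let B : Subalgebra A K := Algebra.adjoin A
    (↑(s.image fun y => algebraMap A K y / algebraMap A K x) : Set K)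
  have : Algebra.FiniteType A B :=
    (Subalgebra.fg_iff_finiteType B).1 (Subalgebra.fg_adjoin_finset _)
  have : IsNoetherianRing B := Algebra.FiniteType.isNoetherianRing A B
  have hBV : ∀ b ∈ B, b ∈ V₀ := by
    let S' : Subalgebra A K := { V₀.toSubring with algebraMap_mem' := hV₀ }
    refine show B ≤ S' from Algebra.adjoin_le ?_
    intro b hb
    simp only [Finset.coe_image, Set.mem_image] at hb
    obtain ⟨y, hy, rfl⟩ := hb
    show _ ∈ V₀
    rw [← ValuationSubring.valuation_le_one_iff, map_div₀]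
    exact div_le_one_of_le₀ (hmax y hy) zero_le
  let g : B →+* V₀ := B.val.toRingHom.codRestrict V₀.toSubring fun b => hBV b b.2
  let cB : Ideal B := (IsLocalRing.maximalIdeal V₀).comap g
  have hxq : x ∈ q₀ := hs ▸ Submodule.subset_span hx
  have hxc : Ideal.span {algebraMap A B x} ≤ cB := by
    rw [Ideal.span_singleton_le_iff_mem]
    exact hxq
  have hcBprime : cB.IsPrime := Ideal.IsPrime.comap g
  obtain ⟨P, hP, hPc⟩ := Ideal.exists_minimalPrimes_le hxc
  have hPprime : P.IsPrime := hP.1.1
  have hxP : algebraMap A B x ∈ P := hP.1.2 (Ideal.mem_span_singleton_self _)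
  have hqP : ∀ a, a ∈ q₀ ↔ algebraMap A B a ∈ P := by
    refine fun a => ⟨fun ha => ?_, fun ha => hPc ha⟩
    suffices h : q₀ ≤ P.comap (algebraMap A B) from h ha
    rw [← hs, Submodule.span_le]
    intro y hy
    have hyB : algebraMap A K y / algebraMap A K x ∈ B :=
      Algebra.subset_adjoin (Finset.mem_coe.2 (Finset.mem_image_of_mem _ hy))
    have he : algebraMap A B y = ⟨_, hyB⟩ * algebraMap A B x :=
      Subtype.ext (div_mul_cancel₀ _ hx0).symm
    show algebraMap A B y ∈ P
    rw [he]
    exact P.mul_mem_left _ hxP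
  have : IsFractionRing B K := isFractionRing_subalgebra B
  have hSle : P.primeCompl ≤ nonZeroDivisors B := fun z hz =>
    mem_nonZeroDivisors_of_ne_zero fun h => hz (h ▸ P.zero_mem)
  let BP : Subalgebra B K := Localization.subalgebra.ofField K P.primeCompl hSle
  have : IsLocalization.AtPrime BP P := Localization.subalgebra.isLocalization_ofField K P.primeCompl hSle
  have : IsNoetherianRing BP := IsLocalization.isNoetherianRing P.primeCompl BP inferInstance
  have : IsLocalRing BP := IsLocalization.AtPrime.isLocalRing BP P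
  have hPdim : Ring.KrullDimLE 1 BP := by
    rw [Ring.krullDimLE_iff, IsLocalization.AtPrime.ringKrullDim_eq_height P BP]
    exact WithBot.coe_le_coe.2 (Ideal.height_le_one_of_isPrincipal_of_mem_minimalPrimes _ P hP)
  have : IsFractionRing BP K := Localization.subalgebra.isFractionRing_ofField K P.primeCompl hSle
  obtain ⟨V, hBPV, hmaxV⟩ := Ideal.image_subset_nonunits_valuationSubring (A := BP.toSubring)
    (IsLocalRing.maximalIdeal BP) (IsLocalRing.maximalIdeal.isMaximal BP).ne_top
  let VB : Subalgebra BP K := { V.toSubring with algebraMap_mem' := fun b => hBPV b.2 }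
  have : IsNoetherianRing V := KrullAki.isNoetherianRing_subalgebra (A := BP) (K := K) VB
  have hxnon : algebraMap A K x ∈ V.nonunits := by
    refine hmaxV ⟨algebraMap B BP (algebraMap A B x), ?_, rfl⟩
    exact (IsLocalization.AtPrime.to_map_mem_maximal_iff BP P _).2 hxP
  have hxinv : (algebraMap A K x)⁻¹ ∉ V :=
    ((V.mem_nonunits_iff_or).1 hxnon).resolve_left hx0
  refine ⟨V, isDVR_of_isNoetherianRing V hxinv, fun a => ⟨?_, ?_⟩⟩
  · exact hBPV (algebraMap B BP (algebraMap A B a)).2
  · rw [← hq₀, hqP, ← IsLocalization.AtPrime.to_map_mem_maximal_iff BP P]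
    refine ⟨fun h => ?_, fun h => hmaxV ⟨_, h, rfl⟩⟩
    by_contra hnot
    obtain ⟨w, hw⟩ := isUnit_iff_exists_inv.1 (IsLocalRing.notMem_maximalIdeal.1 hnot)
    have hw' : algebraMap A K a * (w : K) = 1 := congrArg Subtype.val hw
    have ha0 : algebraMap A K a ≠ 0 := left_ne_zero_of_mul_eq_one hw'
    exact ((V.mem_nonunits_iff_or).1 h).resolve_left ha0 (eq_inv_of_mul_eq_one_right hw' ▸ hBPV w.2)

/-- A Noetherian domain has, at each non-zero prime, a discrete valuation subring of its fraction field
with centre that prime. -/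
theorem exists_dvr_centre {A : Type u} [CommRing A] [IsDomain A] [IsNoetherianRing A]
    [Algebra A K] [IsFractionRing A K] (p : Ideal A) [hp : p.IsPrime] (hp0 : p ≠ ⊥) :
    ∃ V : ValuationSubring K, IsDiscreteValuationRing V ∧
      ∀ a : A, algebraMap A K a ∈ V ∧ (algebraMap A K a ∈ V.nonunits ↔ a ∈ p) := by
  have hinj : Function.Injective (algebraMap A K) := IsFractionRing.injective A K
  let S : Subring K := (algebraMap A K).range
  let e : A ≃+* S := RingEquiv.ofBijective (algebraMap A K).rangeRestrict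
    ⟨fun a b h => hinj (congrArg Subtype.val h), (algebraMap A K).rangeRestrict_surjective⟩
  obtain ⟨V₀, hle⟩ := (LocalSubring.ofPrime S (p.comap e.symm)).exists_le_valuationSubring
  have hV₀ : ∀ a : A, algebraMap A K a ∈ V₀ := fun a => hle.1 (LocalSubring.le_ofPrime _ _ ⟨a, rfl⟩)
  have hcentre : ∀ a : A, algebraMap A K a ∈ V₀.nonunits ↔ a ∈ p := by
    intro a
    obtain ⟨hle1, hloc⟩ := hle
    have h0 : algebraMap A K a ∈ (LocalSubring.ofPrime S (p.comap e.symm)).toSubring :=
      LocalSubring.le_ofPrime _ _ ⟨a, rfl⟩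
    rw [show algebraMap A K a = ((⟨_, hle1 h0⟩ : V₀) : K) from rfl,
      ValuationSubring.coe_mem_nonunits_iff]
    have h1 : (⟨_, hle1 h0⟩ : V₀) ∈ IsLocalRing.maximalIdeal V₀ ↔
        (⟨_, h0⟩ : (LocalSubring.ofPrime S (p.comap e.symm)).toSubring) ∈ IsLocalRing.maximalIdeal _ := by
      simp only [IsLocalRing.mem_maximalIdeal, mem_nonunits_iff, not_iff_not]
      exact ⟨fun h => hloc.map_nonunit _ h, fun h => h.map (Subring.inclusion hle1)⟩
    rw [h1]
    refine (IsLocalization.AtPrime.to_map_mem_maximal_iff _ (p.comap e.symm) (e a)).trans ?_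
    simp
  obtain ⟨V, hV, hV'⟩ := exists_dvr_same_centre V₀ hV₀ (by
    obtain ⟨a, ha, ha0⟩ := Submodule.exists_mem_ne_zero_of_ne_bot hp0
    exact ⟨a, ha0, (hcentre a).2 ha⟩)
  exact ⟨V, hV, fun a => ⟨(hV' a).1, (hV' a).2.trans (hcentre a)⟩⟩

/-- An element of the fraction field outside a Noetherian integrally closed local domain lies outside
some discrete valuation subring dominating it. -/
theorem exists_dvr_notMem {A : Type u} [CommRing A] [IsDomain A] [IsNoetherianRing A] [IsLocalRing A]
    [IsIntegrallyClosed A] [Algebra A K] [IsFractionRing A K] {b : K}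
    (hb : b ∉ Set.range (algebraMap A K)) :
    ∃ V : ValuationSubring K, IsDiscreteValuationRing V ∧
      (∀ a : A, algebraMap A K a ∈ V ∧ (algebraMap A K a ∈ V.nonunits ↔ a ∈ IsLocalRing.maximalIdeal A)) ∧
      b ∉ V := by
  have hinj : Function.Injective (algebraMap A K) := IsFractionRing.injective A K
  let S : Subring K := (algebraMap A K).range
  let e : A ≃+* S := RingEquiv.ofBijective (algebraMap A K).rangeRestrict
    ⟨fun a b h => hinj (congrArg Subtype.val h), (algebraMap A K).rangeRestrict_surjective⟩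
  have : IsLocalRing S := e.isLocalRing
  let R : LocalSubring K := ⟨S⟩
  have : IsIntegrallyClosedIn R.toSubring K := by
    refine Subring.isIntegrallyClosedIn_iff.2 fun {y} hy => ?_
    obtain ⟨q, hqm, hq⟩ := hy
    refine IsIntegrallyClosed.isIntegral_iff.1 ⟨q.map e.symm.toRingHom, hqm.map _, ?_⟩
    rw [Polynomial.eval₂_map]
    convert hq using 2
    ext z
    exact congrArg Subtype.val (e.apply_symm_apply z)
  obtain ⟨V₀, hle, hbV⟩ := LocalSubring.exists_le_valuationSubring_of_isIntegrallyClosedIn
    (R := R) (fun h => hb h)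
  have hb0 : b ≠ 0 := fun h => hbV (h ▸ V₀.zero_mem)
  have hbinv : b⁻¹ ∈ V₀.nonunits := V₀.inv_mem_nonunits_iff.2 (Or.inr hbV)
  let C : Subalgebra A K := Algebra.adjoin A {b⁻¹}
  have : Algebra.FiniteType A C :=
    (Subalgebra.fg_iff_finiteType C).1 (by classical exact ⟨{b⁻¹}, by simp [C]⟩)
  have : IsNoetherianRing C := Algebra.FiniteType.isNoetherianRing A C
  have : IsFractionRing C K := isFractionRing_subalgebra C
  have hAV : ∀ a : A, algebraMap A K a ∈ V₀ := fun a => hle.1 ⟨a, rfl⟩
  have hCV : ∀ c : C, (c : K) ∈ V₀ := fun c => by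
    let S' : Subalgebra A K := { V₀.toSubring with algebraMap_mem' := hAV }
    exact (show C ≤ S' from Algebra.adjoin_le (Set.singleton_subset_iff.2 (V₀.nonunits_subset hbinv))) c.2
  let bi : C := ⟨b⁻¹, Algebra.subset_adjoin rfl⟩
  obtain ⟨V, hV, hV'⟩ := exists_dvr_same_centre (A := C) V₀ hCV
    ⟨bi, fun h => inv_ne_zero hb0 (congrArg Subtype.val h), hbinv⟩
  refine ⟨V, hV, fun a => ⟨(hV' (algebraMap A C a)).1, (hV' (algebraMap A C a)).2.trans ?_⟩, fun hbv => ?_⟩
  · show algebraMap A K a ∈ V₀.nonunits ↔ _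
    obtain ⟨hle1, hloc⟩ := hle
    rw [show algebraMap A K a = ((⟨_, hAV a⟩ : V₀) : K) from rfl, ValuationSubring.coe_mem_nonunits_iff]
    simp only [IsLocalRing.mem_maximalIdeal, mem_nonunits_iff, not_iff_not]
    refine ⟨fun h => ?_, fun h => (h.map e.toRingHom).map (Subring.inclusion hle1)⟩
    simpa using (hloc.map_nonunit (e a) h).map e.symm.toRingHom
  · exact ((V.mem_nonunits_iff_or).1 ((hV' bi).2.2 hbinv)).resolve_left (inv_ne_zero hb0)
      (by simpa [bi] using hbv)

end Groth.Agent.Rat20Lib
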