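import Groth.Agent.Rat20Lib.Extend

/-!
# Rational maps are defined at normal points over which the graph has an isolated point
-/

universe u

open CategoryTheory AlgebraicGeometry CategoryTheory.Limits TopologicalSpace

namespace Groth.Agent.Rat20Lib

variable {X Y S : Scheme.{u}}

/-- An affine neighbourhood with domain coordinate ring inside an integral open. -/
lemma exists_affine_domain_nhd (W₀ : X.Opens) [IsIntegral (W₀ : Scheme.{u})] {x : X} (hx : x ∈ W₀)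
    (O : X.Opens) (hxO : x ∈ O) :
    ∃ W : X.Opens, IsAffineOpen W ∧ x ∈ W ∧ W ≤ W₀ ⊓ O ∧ IsDomain Γ(X, W) := by
  obtain ⟨W, hW, hxW, hle⟩ := Opens.isBasis_iff_nbhd.1 X.isBasis_affineOpens (show x ∈ W₀ ⊓ O from ⟨hx, hxO⟩)
  refine ⟨W, hW, hxW, hle, ?_⟩
  have : IsIso (W₀.ι.app W) := W₀.ι.isIso_app W (by rw [Scheme.Opens.opensRange_ι]; exact hle.trans inf_le_left)
  have : Nonempty (W₀.ι ⁻¹ᵁ W : (W₀ : Scheme.{u}).Opens) := ⟨⟨⟨x, hx⟩, hxW⟩⟩
  have : IsDomain Γ((W₀ : Scheme.{u}), W₀.ι ⁻¹ᵁ W) := IsIntegral.component_integral _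
  exact (asIso (W₀.ι.app W)).commRingCatIsoToRingEquiv.toMulEquiv.isDomain

/-- A rational map is defined at a normal point over which the closure of its graph has an isolated
point. -/
theorem extends_of_isolated (pX : X ⟶ S) (pY : Y ⟶ S)
    [LocallyOfFiniteType pY] [IsSeparated pY] (W₀ : X.Opens) [IsIntegral (W₀ : Scheme.{u})]
    (U : X.Opens) (hU : Dense (U : Set X)) (h : (U : Scheme.{u}) ⟶ Y) (hh : U.ι ≫ pX = h ≫ pY)
    (x : X) (hxW₀ : x ∈ W₀) (hx : IsIntegrallyClosed (X.presheaf.stalk x))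
    (z : ↥(pullback pX pY)) (hz : pullback.fst pX pY z = x)
    (hzΓ : z ∈ closure (Set.range (pullback.lift U.ι h hh)))
    (hiso : ∃ O : (pullback pX pY).Opens, (O : Set ↥(pullback pX pY)) ∩
      closure (Set.range (pullback.lift U.ι h hh)) ∩ (pullback.fst pX pY) ⁻¹' {x} = {z}) :
    ∃ (V : X.Opens) (v : (V : Scheme.{u}) ⟶ Y), x ∈ V ∧ v ≫ pY = V.ι ≫ pX ∧
      X.homOfLE (inf_le_right : U ⊓ V ≤ V) ≫ v = X.homOfLE (inf_le_left : U ⊓ V ≤ U) ≫ h := by
  obtain ⟨W, hW, hxW, -, hdom⟩ := exists_affine_domain_nhd W₀ hxW₀ ⊤ trivial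
  obtain ⟨O, hO⟩ := hiso
  have hzO : z ∈ O := (hO.ge (Set.mem_singleton z)).1.1
  obtain ⟨T, hT, hzT, hTle⟩ := Opens.isBasis_iff_nbhd.1 (pullback pX pY).isBasis_affineOpens
    (show z ∈ pullback.fst pX pY ⁻¹ᵁ W ⊓ O from ⟨show pullback.fst pX pY z ∈ W from hz ▸ hxW, hzO⟩)
  have hgenU : ∀ pt, genPt hW pt ∈ U := by
    intro pt
    obtain ⟨w, hwW, hwU⟩ := hU.inter_open_nonempty _ W.isOpen ⟨x, hxW⟩
    exact (genPt_specializes hW pt hwW).mem_open U.isOpen hwU
  let uU := IsOpenImmersion.lift U.ι (genPt hW)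
    (by rw [Scheme.Opens.range_ι]; rintro _ ⟨pt, rfl⟩; exact hgenU pt)
  have huU : uU ≫ U.ι = genPt hW := IsOpenImmersion.lift_fac _ _ _
  let γ := pullback.lift U.ι h hh
  let σ := uU ≫ γ
  have hσg : σ ≫ pullback.fst pX pY = genPt hW := by
    simp only [σ, γ, Category.assoc, pullback.lift_fst]; exact huU
  have hspec : ∀ pt, σ pt ⤳ z := by
    intro pt
    rw [specializes_iff_mem_closure]
    have h1 : z ∈ closure ((pullback.fst pX pY ⁻¹ᵁ W : Set _) ∩ Set.range γ) :=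
      (pullback.fst pX pY ⁻¹ᵁ W).isOpen.inter_closure ⟨(hTle hzT).1, hzΓ⟩
    refine closure_minimal ?_ isClosed_closure h1
    rintro _ ⟨hy, w, rfl⟩
    have hwW : U.ι w ∈ W := by
      have : pullback.fst pX pY (γ w) = U.ι w :=
        congrArg (fun m : (U : Scheme.{u}) ⟶ X => m w) (pullback.lift_fst _ _ _)
      rw [← this]; exact hy
    rw [← specializes_iff_mem_closure]
    refine Specializes.map ?_ γ.continuous
    rw [← U.ι.isOpenEmbedding.toIsInducing.specializes_iff]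
    have : U.ι (uU pt) = genPt hW pt := congrArg (fun m : _ ⟶ X => m pt) huU
    show U.ι (uU pt) ⤳ U.ι w
    rw [this]
    exact genPt_specializes hW pt hwW
  have hσT : Set.range σ ⊆ T := by
    rintro _ ⟨pt, rfl⟩
    exact (hspec pt).mem_open T.isOpen hzT
  obtain ⟨D, v, l, -, hxD, hv, hl, hlv⟩ := exists_extension_of_unique_limit (pullback.fst pX pY) hW hT
    (hTle.trans inf_le_left) σ hσg hσT hxW hx hzT hz hspec fun z' hz'T hz' hs => by
      let pt : Spec (.of (FractionRing Γ(X, W))) := ⟨⊥, Ideal.isPrime_bot⟩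
      have h1 : z' ∈ closure (Set.range γ) :=
        closure_mono (Set.singleton_subset_iff.2 (show σ pt ∈ Set.range γ from ⟨uU pt, rfl⟩)) (specializes_iff_mem_closure.1 (hs pt))
      exact hO.le ⟨⟨(hTle hz'T).2, h1⟩, hz'⟩
  refine ⟨D ⊓ W, X.homOfLE (inf_le_left : D ⊓ W ≤ D) ≫ v ≫ pullback.snd pX pY, ⟨hxD, hxW⟩, ?_, ?_⟩
  · rw [Category.assoc, Category.assoc, ← pullback.condition, reassoc_of% hv, Scheme.homOfLE_ι_assoc]
  · let l' := IsOpenImmersion.lift (U ⊓ (D ⊓ W) : X.Opens).ι (genPt hW) (by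
      rw [Scheme.Opens.range_ι]
      rintro _ ⟨pt, rfl⟩
      refine ⟨hgenU pt, ?_, genPt_mem hW pt⟩
      rw [show genPt hW pt = D.ι (l pt) from congrArg (fun m : _ ⟶ X => m pt) hl.symm]
      exact (l pt).2)
    have hl' : l' ≫ (U ⊓ (D ⊓ W) : X.Opens).ι = genPt hW := IsOpenImmersion.lift_fac _ _ _
    have h1 : l' ≫ X.homOfLE (inf_le_right : U ⊓ (D ⊓ W) ≤ D ⊓ W) ≫ X.homOfLE inf_le_left = l := by
      rw [← cancel_mono D.ι, hl, Category.assoc, Category.assoc, Scheme.homOfLE_ι, Scheme.homOfLE_ι, hl']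
    have h2 : l' ≫ X.homOfLE (inf_le_left : U ⊓ (D ⊓ W) ≤ U) = uU := by
      rw [← cancel_mono U.ι, huU, Category.assoc, Scheme.homOfLE_ι, hl']
    refine hom_ext_of_genPt hW (inf_le_right.trans inf_le_right) pY _ _ ?_ l' hl' ?_
    · simp only [Category.assoc]
      rw [← pullback.condition, reassoc_of% hv, ← hh, Scheme.homOfLE_ι_assoc, Scheme.homOfLE_ι_assoc,
        Scheme.homOfLE_ι_assoc]
    · rw [reassoc_of% h1, reassoc_of% hlv, reassoc_of% h2]
      simp only [σ, γ, Category.assoc, pullback.lift_snd]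

end Groth.Agent.Rat20Lib
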