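import Groth.Agent.Rat20Lib.DVRDom
import Groth.Agent.Rat20Lib.Graph
import Mathlib.AlgebraicGeometry.Noetherian
import Mathlib.AlgebraicGeometry.Gluing

/-!
# Valuative criterion for a rational map to be defined at a normal point
-/

universe u

open CategoryTheory AlgebraicGeometry CategoryTheory.Limits TopologicalSpace

namespace Groth.Agent.Rat20Lib

variable {X Y : Scheme.{u}}

/-- Two morphisms on opens agreeing on the overlap glue. -/
lemma exists_glue (U V : X.Opens) (f : (U : Scheme.{u}) ⟶ Y) (g : (V : Scheme.{u}) ⟶ Y)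
    (h : X.homOfLE (inf_le_left : U ⊓ V ≤ U) ≫ f = X.homOfLE (inf_le_right : U ⊓ V ≤ V) ≫ g) :
    ∃ F : ((U ⊔ V : X.Opens) : Scheme.{u}) ⟶ Y,
      X.homOfLE le_sup_left ≫ F = f ∧ X.homOfLE le_sup_right ≫ F = g := by
  let S : ULift.{u} Bool → X.Opens := fun i => bif i.down then U else V
  have hS : U ⊔ V ≤ ⨆ i, S i := sup_le (le_iSup S ⟨true⟩) (le_iSup S ⟨false⟩)
  let fs : ∀ i, (S i : Scheme.{u}) ⟶ Y
    | ⟨true⟩ => f
    | ⟨false⟩ => g
  have key : ∀ {P : Scheme.{u}} (a : P ⟶ U) (b : P ⟶ V), a ≫ U.ι = b ≫ V.ι → a ≫ f = b ≫ g := by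
    intro P a b hab
    let l := IsOpenImmersion.lift (U ⊓ V : X.Opens).ι (a ≫ U.ι) (by
      rw [Scheme.Opens.range_ι]; rintro _ ⟨i, rfl⟩
      exact ⟨(a i).2, by
        rw [show (a ≫ U.ι) i = V.ι (b i) from congrArg (fun m : P ⟶ X => m i) hab]
        exact (b i).2⟩)
    have hl : l ≫ (U ⊓ V : X.Opens).ι = a ≫ U.ι := IsOpenImmersion.lift_fac _ _ _
    have ha : a = l ≫ X.homOfLE inf_le_left := by
      rw [← cancel_mono U.ι, Category.assoc, Scheme.homOfLE_ι, hl]
    have hb : b = l ≫ X.homOfLE inf_le_right := by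
      rw [← cancel_mono V.ι, Category.assoc, Scheme.homOfLE_ι, hl, hab]
    rw [ha, hb, Category.assoc, Category.assoc, h]
  have hcond : ∀ i j, pullback.fst (X.homOfLE (le_iSup S i)) (X.homOfLE (le_iSup S j)) ≫ fs i =
      pullback.snd (X.homOfLE (le_iSup S i)) (X.homOfLE (le_iSup S j)) ≫ fs j := by
    intro i j
    have hc := congrArg (· ≫ (⨆ i, S i).ι)
      (pullback.condition (f := X.homOfLE (le_iSup S i)) (g := X.homOfLE (le_iSup S j)))
    simp only [Category.assoc, Scheme.homOfLE_ι] at hc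
    rcases i with ⟨_ | _⟩ <;> rcases j with ⟨_ | _⟩
    · exact congrArg (· ≫ g) ((cancel_mono (S ⟨false⟩).ι).1 hc)
    · exact (key _ _ hc.symm).symm
    · exact key _ _ hc
    · exact congrArg (· ≫ f) ((cancel_mono (S ⟨true⟩).ι).1 hc)
  refine ⟨X.homOfLE hS ≫ (Scheme.Opens.iSupOpenCover S).glueMorphisms fs hcond, ?_, ?_⟩
  · rw [← Category.assoc, Scheme.homOfLE_homOfLE]
    exact Scheme.Cover.ι_glueMorphisms (Scheme.Opens.iSupOpenCover S) fs hcond ⟨true⟩
  · rw [← Category.assoc, Scheme.homOfLE_homOfLE]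
    exact Scheme.Cover.ι_glueMorphisms (Scheme.Opens.iSupOpenCover S) fs hcond ⟨false⟩

/-- Morphisms on a union of two opens are determined by the restrictions. -/
lemma hom_ext_sup {U V : X.Opens} (a b : ((U ⊔ V : X.Opens) : Scheme.{u}) ⟶ Y)
    (hU : X.homOfLE le_sup_left ≫ a = X.homOfLE le_sup_left ≫ b)
    (hV : X.homOfLE le_sup_right ≫ a = X.homOfLE le_sup_right ≫ b) : a = b := by
  let S : ULift.{u} Bool → X.Opens := fun i => bif i.down then U else V
  have hS : U ⊔ V = ⨆ i, S i := le_antisymm (sup_le (le_iSup S ⟨true⟩) (le_iSup S ⟨false⟩))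
    (iSup_le fun ⟨i⟩ => by cases i; exacts [le_sup_right, le_sup_left])
  have h : X.homOfLE hS.ge ≫ a = X.homOfLE hS.ge ≫ b := by
    refine Scheme.Cover.hom_ext (Scheme.Opens.iSupOpenCover S) _ _ fun i => ?_
    show X.homOfLE (le_iSup S i) ≫ _ = X.homOfLE (le_iSup S i) ≫ _
    rw [Scheme.homOfLE_homOfLE_assoc, Scheme.homOfLE_homOfLE_assoc]
    rcases i with ⟨_ | _⟩
    exacts [hV, hU]
  have h2 := congrArg (X.homOfLE hS.le ≫ ·) h
  simp only [Scheme.homOfLE_homOfLE_assoc, Scheme.homOfLE_rfl, Category.id_comp] at h2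
  exact h2

/-- Around a point with domain local ring, a locally Noetherian scheme is integral. -/
lemma exists_noetherian_domain_nhd [IsLocallyNoetherian X] (x : X)
    [IsDomain (X.presheaf.stalk x)] :
    ∃ W : X.Opens, IsAffineOpen W ∧ x ∈ W ∧ IsDomain Γ(X, W) ∧ IsNoetherianRing Γ(X, W) := by
  obtain ⟨W₁, hW₁, hxW₁, -⟩ := Opens.isBasis_iff_nbhd.1 X.isBasis_affineOpens
    (show x ∈ (⊤ : X.Opens) from trivial)
  let A := Γ(X, W₁)
  let p := hW₁.primeIdealOf ⟨x, hxW₁⟩
  have hN : IsNoetherianRing A := IsLocallyNoetherian.component_noetherian ⟨W₁, hW₁⟩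
  let := TopCat.Presheaf.algebra_section_stalk X.presheaf (⟨x, hxW₁⟩ : W₁)
  have : IsLocalization.AtPrime (X.presheaf.stalk x) p.asIdeal := hW₁.isLocalization_stalk ⟨x, hxW₁⟩
  let alg : A →+* X.presheaf.stalk x := algebraMap A (X.presheaf.stalk x)
  obtain ⟨F, hF⟩ := IsNoetherian.noetherian (RingHom.ker alg)
  have h : ∀ a ∈ F, ∃ s : p.asIdeal.primeCompl, (s : A) * a = 0 := fun a ha =>
    (IsLocalization.map_eq_zero_iff p.asIdeal.primeCompl (X.presheaf.stalk x) a).1
      (show a ∈ RingHom.ker alg from hF ▸ Submodule.subset_span ha)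
  choose s hs using h
  let t : A := ∏ a ∈ F.attach, (s a.1 a.2 : A)
  have ht : t ∉ p.asIdeal := fun hmem => by
    obtain ⟨a, -, ha⟩ := p.isPrime.prod_mem_iff.1 hmem
    exact (s a.1 a.2).2 ha
  have hkill : ∀ a, alg a = 0 → t * a = 0 := by
    intro a ha
    have hle : RingHom.ker alg ≤ LinearMap.ker (LinearMap.mulLeft A t) := by
      rw [← hF, Submodule.span_le]
      intro b hb
      show t * b = 0
      obtain ⟨c, hc⟩ : ((s b hb : p.asIdeal.primeCompl) : A) ∣ t :=
        Finset.dvd_prod_of_mem (fun a : F => (s a.1 a.2 : A)) (Finset.mem_attach F ⟨b, hb⟩)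
      rw [hc, mul_right_comm, hs, zero_mul]
    exact hle ha
  have hxD : x ∈ X.basicOpen t := by
    have h0 : p ∈ PrimeSpectrum.basicOpen t := ht
    rw [← hW₁.fromSpec_preimage_basicOpen t] at h0
    have h1 : hW₁.fromSpec p ∈ X.basicOpen t := h0
    rwa [show hW₁.fromSpec p = x from hW₁.fromSpec_primeIdealOf ⟨x, hxW₁⟩] at h1
  refine ⟨X.basicOpen t, hW₁.basicOpen t, hxD, ?_, IsLocallyNoetherian.component_noetherian ⟨_, hW₁.basicOpen t⟩⟩
  have := hW₁.isLocalization_basicOpen t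
  let ι : Γ(X, X.basicOpen t) →+* X.presheaf.stalk x := IsLocalization.Away.lift t
    (show IsUnit (alg t) from IsLocalization.map_units (X.presheaf.stalk x) (⟨t, ht⟩ : p.asIdeal.primeCompl))
  have hι : Function.Injective ι := by
    refine (IsLocalization.lift_injective_iff _).2 fun a b => ⟨fun hab => ?_, fun hab => ?_⟩
    · have := congrArg ι hab
      rwa [IsLocalization.Away.lift_eq, IsLocalization.Away.lift_eq] at this
    · rw [IsLocalization.eq_iff_exists (Submonoid.powers t)]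
      exact ⟨⟨t, 1, pow_one t⟩, sub_eq_zero.1 (by
        rw [← mul_sub]; exact hkill _ (by rw [map_sub]; exact sub_eq_zero.2 hab))⟩
  exact hι.isDomain ι

variable {W : X.Opens} (hW : IsAffineOpen W)
include hW

/-- A neighbourhood `N` of `x` with `N ∩ U ⊆ O`, when `O` contains the generalizations of `x` in `U`. -/
lemma exists_nhd_inf_le [IsNoetherianRing Γ(X, W)] {x : X} (hx : x ∈ W) (U O : X.Opens)
    (h : ∀ w ∈ U ⊓ W, w ⤳ x → w ∈ O) : ∃ N : X.Opens, x ∈ N ∧ N ≤ W ∧ N ⊓ U ≤ O := by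
  classical
  let p := hW.primeIdealOf ⟨x, hx⟩
  obtain ⟨sU, hsU⟩ := (PrimeSpectrum.isOpen_iff _).1 (hW.fromSpec ⁻¹ᵁ U).isOpen
  obtain ⟨sO, hsO⟩ := (PrimeSpectrum.isOpen_iff _).1 (hW.fromSpec ⁻¹ᵁ O).isOpen
  have memU : ∀ P : PrimeSpectrum Γ(X, W), hW.fromSpec P ∈ U ↔ ¬ sU ⊆ P.asIdeal := fun P => by
    rw [← not_iff_not, not_not]; exact (Set.ext_iff.1 hsU P)
  have memO : ∀ P : PrimeSpectrum Γ(X, W), hW.fromSpec P ∈ O ↔ ¬ sO ⊆ P.asIdeal := fun P => by
    rw [← not_iff_not, not_not]; exact (Set.ext_iff.1 hsO P)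
  obtain ⟨G, hGs, hG⟩ := Submodule.fg_span_iff_fg_span_finset_subset sU |>.1
    (IsNoetherian.noetherian (Submodule.span Γ(X, W) sU))
  have key : ∀ g ∈ G, ∃ s : Γ(X, W), s ∉ p.asIdeal ∧ ∃ n : ℕ, s * g ^ n ∈ Ideal.span sO := by
    intro g hg
    by_contra hne
    simp only [not_exists, not_and] at hne
    obtain ⟨P, hP, hPI, hPd⟩ := Ideal.exists_le_prime_disjoint (Ideal.span sO)
      (p.asIdeal.primeCompl ⊔ Submonoid.powers g) (by
        rw [Set.disjoint_left]
        intro a haI haM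
        obtain ⟨s, hs, _, ⟨n, rfl⟩, rfl⟩ := Submonoid.mem_sup.1 haM
        exact hne s hs n haI)
    rw [Set.disjoint_left] at hPd
    have hPp : P ≤ p.asIdeal := fun a ha => by_contra fun hnp =>
      hPd ha (Submonoid.mem_sup_left (hnp : a ∈ p.asIdeal.primeCompl))
    have hgP : g ∉ P := fun hgP => hPd hgP (Submonoid.mem_sup_right ⟨1, pow_one g⟩)
    let w := hW.fromSpec ⟨P, hP⟩
    have hwx : w ⤳ x := by
      have := ((PrimeSpectrum.le_iff_specializes (⟨P, hP⟩ : PrimeSpectrum Γ(X, W)) p).1 hPp).map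
        hW.fromSpec.continuous
      rwa [show hW.fromSpec p = x from hW.fromSpec_primeIdealOf ⟨x, hx⟩] at this
    have hwW : w ∈ W := by
      have : w ∈ Set.range hW.fromSpec := ⟨_, rfl⟩
      rwa [hW.range_fromSpec] at this
    exact (memO ⟨P, hP⟩).1 (h w ⟨(memU ⟨P, hP⟩).2 fun hs => hgP (hs (hGs hg)), hwW⟩ hwx)
      (Ideal.subset_span.trans hPI)
  choose! s hs n hn using key
  let t : Γ(X, W) := ∏ g ∈ G, s g
  refine ⟨X.basicOpen t, ?_, X.basicOpen_le t, ?_⟩
  · have h0 : p ∈ PrimeSpectrum.basicOpen t := fun hmem => by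
      obtain ⟨g, hg, hg'⟩ := p.isPrime.prod_mem_iff.1 hmem
      exact hs g hg hg'
    rw [← hW.fromSpec_preimage_basicOpen t] at h0
    have h1 : hW.fromSpec p ∈ X.basicOpen t := h0
    rwa [show hW.fromSpec p = x from hW.fromSpec_primeIdealOf ⟨x, hx⟩] at h1
  · rintro y ⟨hyt, hyU⟩
    obtain ⟨P, rfl⟩ : y ∈ Set.range hW.fromSpec := by rw [hW.range_fromSpec]; exact X.basicOpen_le t hyt
    have htP : t ∉ P.asIdeal := by
      have : P ∈ hW.fromSpec ⁻¹ᵁ X.basicOpen t := hyt
      rwa [hW.fromSpec_preimage_basicOpen t] at this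
    refine (memO P).2 fun hO => ?_
    refine (memU P).1 hyU fun a ha => ?_
    have hle : Submodule.span Γ(X, W) sU ≤ P.asIdeal := by
      rw [hG, Submodule.span_le]
      intro g hg
      rcases P.isPrime.mem_or_mem (Ideal.span_le.2 hO (hn g hg)) with h1 | h1
      · exact absurd (P.asIdeal.mem_of_dvd (Finset.dvd_prod_of_mem s hg) h1) htP
      · exact P.isPrime.mem_of_pow_mem _ h1
    exact hle (Submodule.subset_span ha)

/-- For a specialization `w ⤳ x`, `w ≠ x`, a trait through `w` and `x`. -/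
lemma exists_dvr_point [IsNoetherianRing Γ(X, W)] {x w : X} (hx : x ∈ W) (U : X.Opens) (hwU : w ∈ U)
    (hwx : w ⤳ x) (hne : w ≠ x) :
    ∃ (R : Type u) (_ : CommRing R) (_ : IsDomain R) (_ : IsDiscreteValuationRing R)
      (u : Spec (CommRingCat.of R) ⟶ X) (ub : Spec (CommRingCat.of (FractionRing R)) ⟶ (U : Scheme.{u})),
      u (IsLocalRing.closedPoint R) = x ∧
        ub ≫ U.ι = Spec.map (CommRingCat.ofHom (algebraMap R (FractionRing R))) ≫ u ∧
        ∀ pt, U.ι (ub pt) = w := by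
  have hwW : w ∈ W := hwx.mem_open W.isOpen hx
  let A := Γ(X, W)
  let P := hW.primeIdealOf ⟨w, hwW⟩
  let p := hW.primeIdealOf ⟨x, hx⟩
  have hPp : P.asIdeal ≤ p.asIdeal := by
    refine (PrimeSpectrum.le_iff_specializes P p).2 ?_
    refine (hW.fromSpec.isOpenEmbedding.toIsInducing.specializes_iff).1 ?_
    rwa [show hW.fromSpec P = w from hW.fromSpec_primeIdealOf ⟨w, hwW⟩,
      show hW.fromSpec p = x from hW.fromSpec_primeIdealOf ⟨x, hx⟩]
  have hPne : P.asIdeal ≠ p.asIdeal := fun h => hne (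
    (hW.fromSpec_primeIdealOf ⟨w, hwW⟩).symm.trans
      ((congrArg hW.fromSpec (PrimeSpectrum.ext h)).trans (hW.fromSpec_primeIdealOf ⟨x, hx⟩)))
  let π : A →+* A ⧸ P.asIdeal := Ideal.Quotient.mk P.asIdeal
  have hp' : (p.asIdeal.map π).IsPrime := Ideal.map_isPrime_of_surjective Ideal.Quotient.mk_surjective
    (by rw [Ideal.mk_ker]; exact hPp)
  have hmem : ∀ a, π a ∈ p.asIdeal.map π ↔ a ∈ p.asIdeal := fun a => by
    rw [← Ideal.mem_comap, Ideal.comap_map_of_surjective _ Ideal.Quotient.mk_surjective,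
      ← RingHom.ker_eq_comap_bot, Ideal.mk_ker, sup_eq_left.2 hPp]
  obtain ⟨V, hV, hVc⟩ := exists_dvr_centre (K := FractionRing (A ⧸ P.asIdeal)) (p.asIdeal.map π) (by
    rw [Ne, Ideal.map_eq_bot_iff_le_ker, Ideal.mk_ker]
    exact fun h => hPne (le_antisymm hPp h))
  let ψ : A →+* V := ((algebraMap (A ⧸ P.asIdeal) _).comp π).codRestrict V.toSubring fun a => (hVc (π a)).1
  let uR : Spec (CommRingCat.of V) ⟶ X := Spec.map (CommRingCat.ofHom ψ) ≫ hW.fromSpec
  let j := Spec.map (CommRingCat.ofHom (algebraMap V (FractionRing V))) ≫ uR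
  have hj : ∀ pt, j pt = w := by
    intro pt
    have hpt : pt.asIdeal = ⊥ := (Ideal.eq_bot_or_top pt.asIdeal).resolve_right pt.isPrime.ne_top
    refine Eq.trans ?_ (hW.fromSpec_primeIdealOf ⟨w, hwW⟩)
    refine congrArg hW.fromSpec (PrimeSpectrum.ext ?_)
    ext a
    show algebraMap V (FractionRing V) (ψ a) ∈ pt.asIdeal ↔ a ∈ P.asIdeal
    rw [hpt, Ideal.mem_bot, map_eq_zero_iff _ (IsFractionRing.injective V (FractionRing V)),
      ← Ideal.Quotient.eq_zero_iff_mem]
    refine ⟨fun h => ?_, fun h => Subtype.ext ?_⟩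
    · have := congrArg Subtype.val h
      exact (map_eq_zero_iff _ (IsFractionRing.injective (A ⧸ P.asIdeal) _)).1 this
    · show algebraMap (A ⧸ P.asIdeal) _ (π a) = 0
      rw [show π a = 0 from h, map_zero]
  refine ⟨V, inferInstance, inferInstance, hV, uR,
    IsOpenImmersion.lift U.ι j (by rw [Scheme.Opens.range_ι]; rintro _ ⟨pt, rfl⟩; rw [hj]; exact hwU),
    ?_, IsOpenImmersion.lift_fac _ _ _, fun pt => ?_⟩
  · refine Eq.trans ?_ (hW.fromSpec_primeIdealOf ⟨x, hx⟩)
    refine congrArg hW.fromSpec (PrimeSpectrum.ext ?_)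
    ext a
    show ψ a ∈ IsLocalRing.maximalIdeal V ↔ a ∈ p.asIdeal
    rw [← ValuationSubring.coe_mem_nonunits_iff]
    exact (hVc (π a)).2.trans (hmem a)
  · exact (congrArg (fun m : _ ⟶ X => m pt) (IsOpenImmersion.lift_fac U.ι j _)).trans (hj pt)

omit hW

/-- A map from a local scheme lands in every open containing the image of the closed point. -/
lemma range_subset_of_closedPoint {R : Type u} [CommRing R] [IsLocalRing R]
    (f : Spec (CommRingCat.of R) ⟶ Y) {T : Y.Opens} (h : f (IsLocalRing.closedPoint R) ∈ T) :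
    Set.range f ⊆ T := by
  rintro _ ⟨y, rfl⟩
  exact (((PrimeSpectrum.le_iff_specializes y (IsLocalRing.closedPoint R)).1
    (IsLocalRing.le_maximalIdeal y.isPrime.ne_top)).map f.continuous).mem_open T.isOpen h

/-- A trait in an affine open is determined by its generic point. -/
lemma eq_of_generic_eq {T : Y.Opens} (hT : IsAffineOpen T) {R : Type u} [CommRing R] {L : Type u}
    [CommRing L] (j : R →+* L) (hj : Function.Injective j) (a b : Spec (CommRingCat.of R) ⟶ Y)
    (ha : Set.range a ⊆ T) (hb : Set.range b ⊆ T)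
    (h : Spec.map (CommRingCat.ofHom j) ≫ a = Spec.map (CommRingCat.ofHom j) ≫ b) : a = b := by
  have : pointHom hT a ha ≫ CommRingCat.ofHom j = pointHom hT b hb ≫ CommRingCat.ofHom j := by
    apply Spec.map_injective
    rw [← cancel_mono hT.fromSpec, Spec.map_comp, Spec.map_comp, Category.assoc, Category.assoc,
      pointHom_spec, pointHom_spec, h]
  have h' : pointHom hT a ha = pointHom hT b hb := by
    ext r
    exact hj (congrArg (fun m : Γ(Y, T) ⟶ CommRingCat.of L => m r) this)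
  rw [← pointHom_spec hT a ha, ← pointHom_spec hT b hb, h']

/-- The valuative criterion, sufficiency. -/
theorem extends_of_valuative [IsLocallyNoetherian X] (q : Y ⟶ X)
    (U : X.Opens) (hU : Dense (U : Set X)) (h : (U : Scheme.{u}) ⟶ Y) (hh : h ≫ q = U.ι)
    [LocallyOfFiniteType q] (x : X) (hxU : x ∉ U) [IsDomain (X.presheaf.stalk x)]
    (hx : IsIntegrallyClosed (X.presheaf.stalk x)) (y₀ : Y) (hy₀ : q y₀ = x)
    (H : ∀ (R : Type u) [CommRing R] [IsDomain R] [IsDiscreteValuationRing R]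
      (u : Spec (CommRingCat.of R) ⟶ X), u (IsLocalRing.closedPoint R) = x →
      ∀ ub : Spec (CommRingCat.of (FractionRing R)) ⟶ (U : Scheme.{u}),
        ub ≫ U.ι = Spec.map (CommRingCat.ofHom (algebraMap R (FractionRing R))) ≫ u →
        ∃ h₁ : Spec (CommRingCat.of R) ⟶ Y, h₁ ≫ q = u ∧ h₁ (IsLocalRing.closedPoint R) = y₀ ∧
          Spec.map (CommRingCat.ofHom (algebraMap R (FractionRing R))) ≫ h₁ = ub ≫ h) :
    ∃ (U' : X.Opens) (hUU' : U ≤ U') (hxU' : x ∈ U') (h' : (U' : Scheme.{u}) ⟶ Y),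
      h' ≫ q = U'.ι ∧ X.homOfLE hUU' ≫ h' = h ∧ h' ⟨x, hxU'⟩ = y₀ := by
  obtain ⟨W, hW, hxW, hdom, hN⟩ := exists_noetherian_domain_nhd x
  obtain ⟨T, hT, hyT, hTle⟩ : ∃ T : Y.Opens, IsAffineOpen T ∧ y₀ ∈ T ∧ T ≤ q ⁻¹ᵁ W :=
    Opens.isBasis_iff_nbhd.1 Y.isBasis_affineOpens
      (show y₀ ∈ q ⁻¹ᵁ W from show q y₀ ∈ W from hy₀ ▸ hxW)
  let A := Γ(X, W)
  let K := FractionRing A
  have hgenU : ∀ pt, genPt hW pt ∈ U := by
    intro pt
    obtain ⟨w, hwW, hwU⟩ := hU.inter_open_nonempty _ W.isOpen ⟨x, hxW⟩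
    exact (genPt_specializes hW pt hwW).mem_open U.isOpen hwU
  let uU := IsOpenImmersion.lift U.ι (genPt hW)
    (by rw [Scheme.Opens.range_ι]; rintro _ ⟨pt, rfl⟩; exact hgenU pt)
  have huU : uU ≫ U.ι = genPt hW := IsOpenImmersion.lift_fac _ _ _
  let σ := uU ≫ h
  have hσg : σ ≫ q = genPt hW := by simp only [σ, Category.assoc, hh]; exact huU
  -- generalizations of `x` in `U` go into `T`
  have hgenT : ∀ w : (U : Scheme.{u}), U.ι w ⤳ x → h w ∈ T := by
    intro w hwx
    obtain ⟨R, _, _, _, u, ub, hu, hub, hpt⟩ := exists_dvr_point hW hxW U w.2 hwx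
      (fun e => hxU (e ▸ w.2))
    obtain ⟨h₁, -, hc, hg⟩ := H R u hu ub hub
    let pt : Spec (CommRingCat.of (FractionRing R)) := ⟨⊥, Ideal.isPrime_bot⟩
    have hmem : h₁ (Spec.map (CommRingCat.ofHom (algebraMap R (FractionRing R))) pt) ∈ T :=
      range_subset_of_closedPoint h₁ (hc ▸ hyT) ⟨_, rfl⟩
    have he : h₁ (Spec.map (CommRingCat.ofHom (algebraMap R (FractionRing R))) pt) = h (ub pt) :=
      congrArg (fun m : Spec (CommRingCat.of (FractionRing R)) ⟶ Y => m pt) hg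
    rwa [he, show ub pt = w from U.ι.isOpenEmbedding.injective (hpt pt)] at hmem
  have hσT : Set.range σ ⊆ T := by
    rintro _ ⟨pt, rfl⟩
    refine hgenT (uU pt) ?_
    rw [show U.ι (uU pt) = genPt hW pt from congrArg (fun m : _ ⟶ X => m pt) huU]
    exact genPt_specializes hW pt hxW
  -- denominators
  let p := hW.primeIdealOf ⟨x, hxW⟩
  let := TopCat.Presheaf.algebra_section_stalk X.presheaf (⟨x, hxW⟩ : W)
  have : IsLocalization.AtPrime (X.presheaf.stalk x) p.asIdeal := hW.isLocalization_stalk ⟨x, hxW⟩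
  let := IsLocalization.localizationAlgebraOfSubmonoidLe (X.presheaf.stalk x) K p.asIdeal.primeCompl
    (nonZeroDivisors A) p.asIdeal.primeCompl_le_nonZeroDivisors
  have : IsScalarTower A (X.presheaf.stalk x) K :=
    IsLocalization.localization_isScalarTower_of_submonoid_le _ _ p.asIdeal.primeCompl (nonZeroDivisors A)
      p.asIdeal.primeCompl_le_nonZeroDivisors
  have : IsFractionRing (X.presheaf.stalk x) K :=
    IsFractionRing.isFractionRing_of_isDomain_of_isLocalization p.asIdeal.primeCompl _ _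
  let := (q.appLE W T hTle).hom.toAlgebra
  have : Algebra.FiniteType A Γ(Y, T) := q.finiteType_appLE hW hT hTle
  let φ : Γ(Y, T) →ₐ[A] K :=
    { (pointHom hT σ hσT).hom with
      commutes' := fun a =>
        congrArg (fun m : A ⟶ CommRingCat.of K => m a) (pointHom_appLE q hW hT hTle σ hσg hσT) }
  have hden : ∀ r, ∃ c : A, c ∉ p.asIdeal ∧ ∃ a : A, algebraMap A K c * φ r = algebraMap A K a := by
    intro r
    by_cases hr : φ r ∈ Set.range (algebraMap (X.presheaf.stalk x) K)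
    · obtain ⟨z, hz⟩ := hr
      obtain ⟨⟨a, c⟩, hac⟩ := IsLocalization.surj p.asIdeal.primeCompl z
      refine ⟨c, c.2, a, ?_⟩
      rw [← hz, IsScalarTower.algebraMap_apply A (X.presheaf.stalk x) K,
        IsScalarTower.algebraMap_apply A (X.presheaf.stalk x) K, ← hac, map_mul, mul_comm]
    · exfalso
      obtain ⟨V, hV, hVc, hb⟩ := exists_dvr_notMem hr
      let ψ : A →+* V := (algebraMap A K).codRestrict V.toSubring fun a => by
        rw [IsScalarTower.algebraMap_apply A (X.presheaf.stalk x) K]; exact (hVc _).1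
      let uR : Spec (CommRingCat.of V) ⟶ X := Spec.map (CommRingCat.ofHom ψ) ≫ hW.fromSpec
      have huR : uR (IsLocalRing.closedPoint V) = x := by
        refine Eq.trans ?_ (hW.fromSpec_primeIdealOf ⟨x, hxW⟩)
        refine congrArg hW.fromSpec (PrimeSpectrum.ext ?_)
        ext a
        show ψ a ∈ IsLocalRing.maximalIdeal V ↔ a ∈ p.asIdeal
        rw [← ValuationSubring.coe_mem_nonunits_iff, show (ψ a : K) = algebraMap A K a from rfl,
          IsScalarTower.algebraMap_apply A (X.presheaf.stalk x) K, (hVc _).2,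
          IsLocalization.AtPrime.to_map_mem_maximal_iff (X.presheaf.stalk x) p.asIdeal]
      let L := FractionRing V
      let e : K →+* L := (IsFractionRing.lift (A := A) (K := K)
        (g := (algebraMap V L).comp ψ) (fun a b hab => IsFractionRing.injective A K
          (congrArg Subtype.val (IsFractionRing.injective V L hab))))
      have he : ∀ a, e (algebraMap A K a) = algebraMap V L (ψ a) :=
        fun a => IsFractionRing.lift_algebraMap _ a
      have hje : Spec.map (CommRingCat.ofHom e) ≫ genPt hW =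
          Spec.map (CommRingCat.ofHom (algebraMap V L)) ≫ uR := by
        rw [genPt, ← Spec.map_comp_assoc, ← Spec.map_comp_assoc]
        congr 2
        ext a
        exact he a
      have hub : (Spec.map (CommRingCat.ofHom e) ≫ uU) ≫ U.ι =
          Spec.map (CommRingCat.ofHom (algebraMap V L)) ≫ uR := by
        rw [Category.assoc, huU, hje]
      obtain ⟨h₁, -, hc, hg⟩ := H V uR huR _ hub
      have h₁T := range_subset_of_closedPoint h₁ (hc ▸ hyT)
      have hcomp : pointHom hT h₁ h₁T ≫ CommRingCat.ofHom (algebraMap V L) =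
          pointHom hT σ hσT ≫ CommRingCat.ofHom e := by
        apply Spec.map_injective
        rw [← cancel_mono hT.fromSpec, Spec.map_comp, Spec.map_comp, Category.assoc, Category.assoc,
          pointHom_spec, pointHom_spec, hg, Category.assoc]
      have hr' : algebraMap V L (pointHom hT h₁ h₁T r) = e (φ r) :=
        congrArg (fun m : Γ(Y, T) ⟶ CommRingCat.of L => m r) hcomp
      obtain ⟨a, b, hb0, hab⟩ := IsFractionRing.div_surjective (A := A) (φ r)
      have hb0' : algebraMap A K b ≠ 0 := by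
        rw [Ne, map_eq_zero_iff _ (IsFractionRing.injective A K)]; exact nonZeroDivisors.ne_zero hb0
      have h2 : pointHom hT h₁ h₁T r * ψ b = ψ a := IsFractionRing.injective V L (by
        rw [map_mul, hr', ← he, ← he, ← map_mul, ← hab, div_mul_cancel₀ _ hb0'])
      apply hb
      have h3 : ((pointHom hT h₁ h₁T r : V) : K) * algebraMap A K b = algebraMap A K a :=
        congrArg Subtype.val h2
      rw [← hab, ← h3, mul_div_cancel_right₀ _ hb0']
      exact SetLike.coe_mem _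
  obtain ⟨t, htp, ht⟩ := exists_denominator p.asIdeal φ hden
  obtain ⟨v, l, hvq, hl, hlv, hvT⟩ := exists_extension q hW hT hTle σ hσg hσT t
    (fun h => htp (h ▸ p.asIdeal.zero_mem)) ht
  have hxD : x ∈ X.basicOpen t := by
    have h0 : p ∈ PrimeSpectrum.basicOpen t := htp
    rw [← hW.fromSpec_preimage_basicOpen t] at h0
    have h1 : hW.fromSpec p ∈ X.basicOpen t := h0
    rwa [show hW.fromSpec p = x from hW.fromSpec_primeIdealOf ⟨x, hxW⟩] at h1
  -- a neighbourhood where `h` lands in `T`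
  obtain ⟨N, hxN, hNW, hNU⟩ := exists_nhd_inf_le hW hxW U (U.ι ''ᵁ (h ⁻¹ᵁ T)) (by
    intro w hw hwx
    exact ⟨⟨w, hw.1⟩, hgenT ⟨w, hw.1⟩ hwx, rfl⟩)
  let D := X.basicOpen t ⊓ N
  let vD := X.homOfLE (inf_le_left : D ≤ X.basicOpen t) ≫ v
  have hagree : X.homOfLE (inf_le_left : U ⊓ D ≤ U) ≫ h =
      X.homOfLE (inf_le_right : U ⊓ D ≤ D) ≫ vD := by
    have hTaff : IsAffine (T : Scheme.{u}) := hT
    have hr1 : Set.range (X.homOfLE (inf_le_left : U ⊓ D ≤ U) ≫ h) ⊆ Set.range T.ι := by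
      rw [Scheme.Opens.range_ι]
      rintro _ ⟨i, rfl⟩
      obtain ⟨w, hw, hwi⟩ := hNU (show (U ⊓ D).ι i ∈ N ⊓ U from ⟨i.2.2.2, i.2.1⟩)
      have : X.homOfLE (inf_le_left : U ⊓ D ≤ U) i = w := U.ι.isOpenEmbedding.injective
        ((congrArg (fun m : ((U ⊓ D : X.Opens) : Scheme.{u}) ⟶ X => m i) (Scheme.homOfLE_ι _ _)).trans hwi.symm)
      show h (X.homOfLE inf_le_left i) ∈ T
      rw [this]; exact hw
    have hr2 : Set.range (X.homOfLE (inf_le_right : U ⊓ D ≤ D) ≫ vD) ⊆ Set.range T.ι := by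
      rw [Scheme.Opens.range_ι]
      rintro _ ⟨i, rfl⟩
      exact hvT ⟨_, rfl⟩
    let a₁ := IsOpenImmersion.lift T.ι _ hr1
    let a₂ := IsOpenImmersion.lift T.ι _ hr2
    have ha₁ : a₁ ≫ T.ι = _ := IsOpenImmersion.lift_fac _ _ hr1
    have ha₂ : a₂ ≫ T.ι = _ := IsOpenImmersion.lift_fac _ _ hr2
    suffices a₁ = a₂ by rw [← ha₁, this, ha₂]
    let l' := IsOpenImmersion.lift (U ⊓ D : X.Opens).ι (genPt hW) (by
      rw [Scheme.Opens.range_ι]
      rintro _ ⟨pt, rfl⟩
      refine ⟨hgenU pt, ?_, (genPt_specializes hW pt hxW).mem_open N.isOpen hxN⟩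
      rw [show genPt hW pt = (X.basicOpen t).ι (l pt) from congrArg (fun m : _ ⟶ X => m pt) hl.symm]
      exact (l pt).2)
    have hl' : l' ≫ (U ⊓ D : X.Opens).ι = genPt hW := IsOpenImmersion.lift_fac _ _ _
    have h1 : l' ≫ X.homOfLE (inf_le_left : U ⊓ D ≤ U) = uU := by
      rw [← cancel_mono U.ι, huU, Category.assoc, Scheme.homOfLE_ι, hl']
    have h2 : l' ≫ X.homOfLE (inf_le_right : U ⊓ D ≤ D) ≫ X.homOfLE inf_le_left = l := by
      rw [← cancel_mono (X.basicOpen t).ι, hl, Category.assoc, Category.assoc, Scheme.homOfLE_ι,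
        Scheme.homOfLE_ι, hl']
    refine hom_ext_of_genPt hW (inf_le_right.trans (inf_le_right.trans hNW))
      (terminal.from _) a₁ a₂ (terminal.hom_ext _ _) l' hl' ?_
    rw [← cancel_mono T.ι, Category.assoc, Category.assoc, ha₁, ha₂, reassoc_of% h1]
    simp only [vD]
    rw [reassoc_of% h2, hlv]
  obtain ⟨F, hF1, hF2⟩ := exists_glue U D h vD hagree
  refine ⟨U ⊔ D, le_sup_left, Or.inr ⟨hxD, hxN⟩, F, ?_, hF1, ?_⟩
  · refine hom_ext_sup _ _ ?_ ?_
    · rw [reassoc_of% hF1, hh, Scheme.homOfLE_ι]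
    · rw [reassoc_of% hF2, Scheme.homOfLE_ι]
      simp only [vD, Category.assoc, hvq, Scheme.homOfLE_ι]
      rfl
  · let pt : Spec (CommRingCat.of (FractionRing A)) := ⟨⊥, Ideal.isPrime_bot⟩
    obtain ⟨R, _, _, _, u, ub, hu, hub, -⟩ := exists_dvr_point hW hxW U (hgenU pt)
      (genPt_specializes hW pt hxW) (fun e => hxU (e ▸ hgenU pt))
    obtain ⟨h₁, -, hc, hg⟩ := H R u hu ub hub
    have hxD' : x ∈ D := ⟨hxD, hxN⟩
    let u' := IsOpenImmersion.lift D.ι u (by
      rw [Scheme.Opens.range_ι]; exact range_subset_of_closedPoint u (hu ▸ hxD'))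
    have hu' : u' ≫ D.ι = u := IsOpenImmersion.lift_fac _ _ _
    let alg := Spec.map (CommRingCat.ofHom (algebraMap R (FractionRing R)))
    let k := IsOpenImmersion.lift (U ⊓ D : X.Opens).ι (ub ≫ U.ι) (by
      rw [Scheme.Opens.range_ι]
      rintro _ ⟨z, rfl⟩
      refine ⟨(ub z).2, ?_⟩
      rw [hub]
      exact range_subset_of_closedPoint u (hu ▸ hxD') ⟨_, rfl⟩)
    have hk : k ≫ (U ⊓ D : X.Opens).ι = ub ≫ U.ι := IsOpenImmersion.lift_fac _ _ _
    have hk1 : k ≫ X.homOfLE (inf_le_left : U ⊓ D ≤ U) = ub := by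
      rw [← cancel_mono U.ι, Category.assoc, Scheme.homOfLE_ι, hk]
    have hk2 : k ≫ X.homOfLE (inf_le_right : U ⊓ D ≤ D) = alg ≫ u' := by
      rw [← cancel_mono D.ι, Category.assoc, Scheme.homOfLE_ι, hk, Category.assoc, hu', hub]
    have heq : u' ≫ vD = h₁ := eq_of_generic_eq hT (algebraMap R (FractionRing R))
      (IsFractionRing.injective R _) _ _ (by rintro _ ⟨z, rfl⟩; exact hvT ⟨_, rfl⟩)
      (range_subset_of_closedPoint h₁ (hc ▸ hyT)) (by
        rw [hg, ← reassoc_of% hk1, hagree, reassoc_of% hk2])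
    have hx' : u' (IsLocalRing.closedPoint R) = ⟨x, hxD'⟩ := D.ι.isOpenEmbedding.injective
      ((congrArg (fun m : Spec (CommRingCat.of R) ⟶ X => m (IsLocalRing.closedPoint R)) hu').trans hu)
    rw [← hc, ← heq]
    refine Eq.trans ?_ (show vD (u' (IsLocalRing.closedPoint R)) = _ from rfl)
    rw [hx']
    refine (congrArg F ?_).trans
      (congrArg (fun m : (D : Scheme.{u}) ⟶ Y => m ⟨x, hxD'⟩) hF2)
    apply (U ⊔ D).ι.isOpenEmbedding.injective
    exact (congrArg (fun m : (D : Scheme.{u}) ⟶ X => m ⟨x, hxD'⟩) (Scheme.homOfLE_ι _ _)).symm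

end Groth.Agent.Rat20Lib
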