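import Groth.Agent.Rat20Lib.ZMT
import Mathlib.AlgebraicGeometry.Morphisms.FiniteType
import Mathlib.AlgebraicGeometry.Morphisms.Separated
import Mathlib.AlgebraicGeometry.PullbackCarrier
import Mathlib.AlgebraicGeometry.Properties

/-!
# Extending morphisms at normal points
-/

universe u

open CategoryTheory AlgebraicGeometry CategoryTheory.Limits TopologicalSpace

namespace Groth.Agent.Rat20Lib

variable {X Z : Scheme.{u}}

/-- A point of `X` with values in the fraction field of an affine open with domain coordinate ring. -/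
noncomputable def genPt {W : X.Opens} (hW : IsAffineOpen W) :
    Spec (.of (FractionRing Γ(X, W))) ⟶ X :=
  Spec.map (CommRingCat.ofHom (algebraMap Γ(X, W) (FractionRing Γ(X, W)))) ≫ hW.fromSpec

lemma genPt_specializes {W : X.Opens} (hW : IsAffineOpen W) [IsDomain Γ(X, W)]
    (pt : Spec (.of (FractionRing Γ(X, W)))) {w : X} (hw : w ∈ W) : genPt hW pt ⤳ w := by
  have h1 : (Spec.map (CommRingCat.ofHom (algebraMap Γ(X, W) (FractionRing Γ(X, W)))) pt :
      PrimeSpectrum Γ(X, W)) ⤳ hW.primeIdealOf ⟨w, hw⟩ := by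
    refine (PrimeSpectrum.le_iff_specializes (R := Γ(X, W)) _ _).1 ?_
    intro a ha
    have hpt : pt.asIdeal = ⊥ := (Ideal.eq_bot_or_top pt.asIdeal).resolve_right pt.isPrime.ne_top
    have : algebraMap Γ(X, W) (FractionRing Γ(X, W)) a ∈ pt.asIdeal := ha
    rw [hpt, Ideal.mem_bot, map_eq_zero_iff _ (IsFractionRing.injective _ _)] at this
    exact this ▸ (hW.primeIdealOf ⟨w, hw⟩).asIdeal.zero_mem
  have := h1.map hW.fromSpec.continuous
  rwa [hW.fromSpec_primeIdealOf ⟨w, hw⟩] at this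

lemma genPt_mem {W : X.Opens} (hW : IsAffineOpen W) (pt : Spec (.of (FractionRing Γ(X, W)))) :
    genPt hW pt ∈ W := by
  have : genPt hW pt ∈ Set.range hW.fromSpec := ⟨_, rfl⟩
  rwa [hW.range_fromSpec] at this

variable (g : Z ⟶ X) {W : X.Opens} (hW : IsAffineOpen W) {T : Z.Opens} (hT : IsAffineOpen T)

/-- The ring map defined by a field valued point of an affine open. -/
noncomputable def pointHom {K : CommRingCat.{u}} (σ : Spec K ⟶ Z) (hσ : Set.range σ ⊆ T) :
    Γ(Z, T) ⟶ K :=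
  Spec.preimage (IsOpenImmersion.lift hT.fromSpec σ (by rwa [hT.range_fromSpec]))

lemma pointHom_spec {K : CommRingCat.{u}} (σ : Spec K ⟶ Z) (hσ : Set.range σ ⊆ T) :
    Spec.map (pointHom hT σ hσ) ≫ hT.fromSpec = σ := by
  rw [pointHom, Spec.map_preimage, IsOpenImmersion.lift_fac]

variable (e : T ≤ g ⁻¹ᵁ W)

lemma pointHom_appLE (σ : Spec (.of (FractionRing Γ(X, W))) ⟶ Z) (hσg : σ ≫ g = genPt hW)
    (hσ : Set.range σ ⊆ T) :
    g.appLE W T e ≫ pointHom hT σ hσ =
      CommRingCat.ofHom (algebraMap Γ(X, W) (FractionRing Γ(X, W))) := by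
  apply Spec.map_injective
  rw [← cancel_mono hW.fromSpec, Spec.map_comp, Category.assoc,
    IsAffineOpen.SpecMap_appLE_fromSpec g hW hT e, reassoc_of% (pointHom_spec hT σ hσ), hσg, genPt]

include hT e

/-- A point of `Z` over `W`, defined on a neighbourhood once its coordinates have bounded denominators. -/
theorem exists_extension [IsDomain Γ(X, W)] (σ : Spec (.of (FractionRing Γ(X, W))) ⟶ Z)
    (hσg : σ ≫ g = genPt hW) (hσ : Set.range σ ⊆ T) (t : Γ(X, W)) (ht : t ≠ 0)
    (h : ∀ r : Γ(Z, T), ∃ k : ℕ, ∃ a : Γ(X, W),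
      algebraMap Γ(X, W) (FractionRing Γ(X, W)) t ^ k * pointHom hT σ hσ r =
        algebraMap Γ(X, W) (FractionRing Γ(X, W)) a) :
    ∃ (v : ((X.basicOpen t : X.Opens) : Scheme.{u}) ⟶ Z)
      (l : Spec (.of (FractionRing Γ(X, W))) ⟶ (X.basicOpen t : X.Opens)),
      v ≫ g = (X.basicOpen t).ι ∧ l ≫ (X.basicOpen t).ι = genPt hW ∧ l ≫ v = σ ∧
        Set.range v ⊆ T := by
  let A := Γ(X, W)
  let K := FractionRing Γ(X, W)
  let D := X.basicOpen t
  have hD : IsAffineOpen D := hW.basicOpen t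
  have := hW.isLocalization_basicOpen t
  have hunit : IsUnit (algebraMap A K t) :=
    isUnit_iff_ne_zero.2 (by rwa [Ne, map_eq_zero_iff _ (IsFractionRing.injective A K)])
  let ι : Γ(X, D) →+* K := IsLocalization.Away.lift t hunit
  have hι : ∀ a : A, ι (algebraMap A Γ(X, D) a) = algebraMap A K a :=
    IsLocalization.Away.lift_eq t hunit
  have hinj : Function.Injective ι := by
    refine (IsLocalization.lift_injective_iff _).2 fun a b => ⟨fun hab => ?_, fun hab => ?_⟩
    · have := congrArg ι hab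
      rwa [hι, hι] at this
    · rw [IsFractionRing.injective A K hab]
  have hrange : ∀ r : Γ(Z, T), pointHom hT σ hσ r ∈ ι.range := by
    intro r
    obtain ⟨k, a, ha⟩ := h r
    refine ⟨IsLocalization.mk' Γ(X, D) a (⟨t ^ k, k, rfl⟩ : Submonoid.powers t), ?_⟩
    have hu : IsUnit (algebraMap A K t ^ k) := hunit.pow k
    rw [← hu.mul_right_inj, ha, ← map_pow, ← hι (t ^ k), ← map_mul, mul_comm,
      IsLocalization.mk'_spec, hι]
  let e' := RingEquiv.ofBijective ι.rangeRestrict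
    ⟨fun a b hab => hinj (congrArg Subtype.val hab), ι.rangeRestrict_surjective⟩
  let ψ : Γ(Z, T) →+* Γ(X, D) :=
    e'.symm.toRingHom.comp ((pointHom hT σ hσ).hom.codRestrict ι.range hrange)
  have hψ : ∀ r, ι (ψ r) = pointHom hT σ hσ r := fun r =>
    congrArg Subtype.val (e'.apply_symm_apply ⟨pointHom hT σ hσ r, hrange r⟩)
  have hψA : g.appLE W T e ≫ CommRingCat.ofHom ψ = X.presheaf.map (homOfLE (X.basicOpen_le t)).op := by
    ext a
    refine hinj ?_
    show ι (ψ (g.appLE W T e a)) = ι (algebraMap A Γ(X, D) a)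
    rw [hψ, hι]
    exact congrArg (fun m : A ⟶ CommRingCat.of K => m a) (pointHom_appLE g hW hT e σ hσg hσ)
  have hl : Set.range (genPt hW) ⊆ Set.range D.ι := by
    rintro _ ⟨pt, rfl⟩
    rw [Scheme.Opens.range_ι]
    have h0 : Spec.map (CommRingCat.ofHom (algebraMap A K)) pt ∈ PrimeSpectrum.basicOpen t :=
      fun hmem => pt.isPrime.ne_top (Ideal.eq_top_of_isUnit_mem _ hmem hunit)
    have := hW.fromSpec_preimage_basicOpen t
    rw [← this] at h0
    exact h0
  let l := IsOpenImmersion.lift D.ι (genPt hW) hl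
  refine ⟨D.toSpecΓ ≫ Spec.map (CommRingCat.ofHom ψ) ≫ hT.fromSpec, l, ?_,
    IsOpenImmersion.lift_fac _ _ _, ?_, ?_⟩
  · rw [Category.assoc, Category.assoc, ← IsAffineOpen.SpecMap_appLE_fromSpec g hW hT e,
      ← Spec.map_comp_assoc, hψA, IsAffineOpen.map_fromSpec hW hD, IsAffineOpen.toSpecΓ_fromSpec]
  · have h1 : l ≫ D.toSpecΓ = Spec.map (CommRingCat.ofHom ι) := by
      rw [← cancel_mono hD.fromSpec, Category.assoc, IsAffineOpen.toSpecΓ_fromSpec,
        IsOpenImmersion.lift_fac, ← IsAffineOpen.map_fromSpec hW hD (homOfLE (X.basicOpen_le t)).op,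
        ← Spec.map_comp_assoc]
      rw [genPt]
      congr 2
      ext a
      exact (hι a).symm
    rw [reassoc_of% h1, ← Spec.map_comp_assoc]
    conv_rhs => rw [← pointHom_spec hT σ hσ]
    congr 2
    ext r
    exact hψ r
  · rintro _ ⟨y, rfl⟩
    rw [← hT.range_fromSpec, Scheme.Hom.comp_apply, Scheme.Hom.comp_apply]
    exact ⟨_, rfl⟩

/-- Zariski's main theorem: extension at a normal point with an isolated limit. -/
theorem exists_extension_of_unique_limit [IsDomain Γ(X, W)] [LocallyOfFiniteType g]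
    (σ : Spec (.of (FractionRing Γ(X, W))) ⟶ Z) (hσg : σ ≫ g = genPt hW) (hσ : Set.range σ ⊆ T)
    {x : X} (hx : x ∈ W) (hxn : IsIntegrallyClosed (X.presheaf.stalk x))
    {z : Z} (hzT : z ∈ T) (hzx : g z = x) (hspec : ∀ pt, σ pt ⤳ z)
    (huniq : ∀ z' ∈ T, g z' = x → (∀ pt, σ pt ⤳ z') → z' = z) :
    ∃ (D : X.Opens) (v : (D : Scheme.{u}) ⟶ Z) (l : Spec (.of (FractionRing Γ(X, W))) ⟶ D),
      D ≤ W ∧ x ∈ D ∧ v ≫ g = D.ι ∧ l ≫ D.ι = genPt hW ∧ l ≫ v = σ := by
  let A := Γ(X, W)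
  let K := FractionRing Γ(X, W)
  let p := hW.primeIdealOf ⟨x, hx⟩
  let := TopCat.Presheaf.algebra_section_stalk X.presheaf (⟨x, hx⟩ : W)
  have : IsLocalization.AtPrime (X.presheaf.stalk x) p.asIdeal := hW.isLocalization_stalk ⟨x, hx⟩
  have : IsIntegrallyClosed (Localization.AtPrime p.asIdeal) :=
    IsIntegrallyClosed.of_equiv
      (IsLocalization.algEquiv p.asIdeal.primeCompl (X.presheaf.stalk x) (Localization.AtPrime p.asIdeal)).toRingEquiv
  let := (g.appLE W T e).hom.toAlgebra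
  have : Algebra.FiniteType A Γ(Z, T) := g.finiteType_appLE hW hT e
  let φ : Γ(Z, T) →ₐ[A] K :=
    { (pointHom hT σ hσ).hom with
      commutes' := fun a =>
        congrArg (fun m : A ⟶ CommRingCat.of K => m a) (pointHom_appLE g hW hT e σ hσg hσ) }
  let pt : Spec (.of K) := ⟨⊥, Ideal.isPrime_bot⟩
  have hκ : ∀ pt' : Spec (.of K), (Spec.map (pointHom hT σ hσ) pt').asIdeal = RingHom.ker φ := by
    intro pt'
    have hpt : pt'.asIdeal = ⊥ := (Ideal.eq_bot_or_top pt'.asIdeal).resolve_right pt'.isPrime.ne_top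
    show pt'.asIdeal.comap _ = _
    rw [hpt]; rfl
  have hσpt : ∀ pt', hT.fromSpec (Spec.map (pointHom hT σ hσ) pt') = σ pt' := fun pt' =>
    congrArg (fun m : Spec (.of K) ⟶ Z => m pt') (pointHom_spec hT σ hσ)
  let q := hT.primeIdealOf ⟨z, hzT⟩
  have hspecq : ∀ q' : PrimeSpectrum Γ(Z, T), RingHom.ker φ ≤ q'.asIdeal ↔
      ∀ pt', σ pt' ⤳ hT.fromSpec q' := by
    intro q'
    refine ⟨fun h pt' => ?_, fun h => ?_⟩
    · rw [← hσpt]
      refine Specializes.map ?_ hT.fromSpec.continuous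
      refine (PrimeSpectrum.le_iff_specializes (R := Γ(Z, T)) _ _).1 ?_
      exact (hκ pt').le.trans h
    · have h1 := h pt
      rw [← hσpt] at h1
      replace h1 := hT.fromSpec.isOpenEmbedding.toIsInducing.specializes_iff.1 h1
      replace h1 := (PrimeSpectrum.le_iff_specializes (R := Γ(Z, T)) _ _).2 h1
      exact (hκ pt).ge.trans h1
  have hqp : q.asIdeal.comap (algebraMap A Γ(Z, T)) = p.asIdeal := by
    have := congrArg PrimeSpectrum.asIdeal (IsAffineOpen.comap_primeIdealOf_appLE W hW T hT e hzT)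
    simp only [hzx] at this
    exact this
  obtain ⟨t, htp, ht⟩ := exists_denominator_of_unique_prime p.asIdeal φ q.asIdeal hqp
    ((hspecq q).2 fun pt' => by rw [hT.fromSpec_primeIdealOf ⟨z, hzT⟩]; exact hspec pt')
    fun q' hq' hq'p hker => by
      let z' := hT.fromSpec ⟨q', hq'⟩
      have hz'T : z' ∈ T := by
        have : z' ∈ Set.range hT.fromSpec := ⟨_, rfl⟩
        rwa [hT.range_fromSpec] at this
      have hz'x : g z' = x := by
        have h2 : Spec.map (g.appLE W T e) ⟨q', hq'⟩ = p := PrimeSpectrum.ext hq'p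
        refine Eq.trans ?_ (hW.fromSpec_primeIdealOf ⟨x, hx⟩)
        rw [show hW.primeIdealOf ⟨x, hx⟩ = p from rfl, ← h2]
        exact congrArg (fun m : Spec Γ(Z, T) ⟶ X => m ⟨q', hq'⟩)
          (IsAffineOpen.SpecMap_appLE_fromSpec g hW hT e).symm
      have := huniq z' hz'T hz'x ((hspecq ⟨q', hq'⟩).1 hker)
      replace this := this.trans (hT.fromSpec_primeIdealOf ⟨z, hzT⟩).symm
      exact congrArg PrimeSpectrum.asIdeal (hT.fromSpec.isOpenEmbedding.injective this)
  have ht0 : t ≠ 0 := fun h => htp (h ▸ p.asIdeal.zero_mem)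
  obtain ⟨v, l, hv, hl, hlv, -⟩ := exists_extension g hW hT e σ hσg hσ t ht0 ht
  refine ⟨_, v, l, X.basicOpen_le t, ?_, hv, hl, hlv⟩
  have h0 : p ∈ PrimeSpectrum.basicOpen t := htp
  rw [← hW.fromSpec_preimage_basicOpen t] at h0
  have h1 : hW.fromSpec p ∈ X.basicOpen t := h0
  rwa [show hW.fromSpec p = x from hW.fromSpec_primeIdealOf ⟨x, hx⟩] at h1

omit hT e

/-- Two morphisms to a separated scheme on an open of `W` agreeing at the generic point are equal. -/
theorem hom_ext_of_genPt {Y S : Scheme.{u}} [IsDomain Γ(X, W)] {O : X.Opens} (hO : O ≤ W)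
    (s : Y ⟶ S) [IsSeparated s] (v₁ v₂ : (O : Scheme.{u}) ⟶ Y) (hs : v₁ ≫ s = v₂ ≫ s)
    (l : Spec (.of (FractionRing Γ(X, W))) ⟶ O) (hl : l ≫ O.ι = genPt hW)
    (h : l ≫ v₁ = l ≫ v₂) : v₁ = v₂ := by
  have : AlgebraicGeometry.IsReduced (O : Scheme.{u}) :=
    have : AlgebraicGeometry.IsReduced (W : Scheme.{u}) := isReduced_of_isOpenImmersion hW.isoSpec.hom
    isReduced_of_isOpenImmersion (X.homOfLE hO)
  have : IsDominant l := ⟨fun y => by
    refine mem_closure_iff.2 fun o ho hy => ?_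
    let pt : Spec (.of (FractionRing Γ(X, W))) := ⟨⊥, Ideal.isPrime_bot⟩
    refine ⟨l pt, ?_, pt, rfl⟩
    have h1 : O.ι (l pt) = genPt hW pt :=
      congrArg (fun m : Spec (.of (FractionRing Γ(X, W))) ⟶ X => m pt) hl
    have h2 : genPt hW pt ⤳ O.ι y := genPt_specializes hW pt (hO y.2)
    rw [← h1, O.ι.isOpenEmbedding.toIsInducing.specializes_iff] at h2
    exact h2.mem_open ho hy⟩
  exact ext_of_isDominant_of_isSeparated s hs l h

end Groth.Agent.Rat20Lib
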