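import Mathlib.RingTheory.ZariskisMainTheorem
import Mathlib.RingTheory.IntegralClosure.IntegrallyClosed
import Mathlib.RingTheory.FiniteType

/-!
# Zariski's main theorem, birational form at a normal point
-/

universe u

namespace Groth.Agent.Rat20Lib

variable {A R : Type u} [CommRing A] [CommRing R] [Algebra A R] [Algebra.FiniteType A R]
  {K : Type u} [Field K] [Algebra A K]

/-- If the image of a finite type algebra in the fraction field consists of elements defined at `p`,
they are defined on a common neighbourhood of `p`. -/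
lemma exists_denominator (p : Ideal A) [p.IsPrime] (φ : R →ₐ[A] K)
    (h : ∀ r : R, ∃ c : A, c ∉ p ∧ ∃ a : A, algebraMap A K c * φ r = algebraMap A K a) :
    ∃ t : A, t ∉ p ∧ ∀ r : R, ∃ k : ℕ, ∃ a : A, algebraMap A K t ^ k * φ r = algebraMap A K a := by
  classical
  obtain ⟨G, hG⟩ := (‹Algebra.FiniteType A R›).out
  choose c hc hc' using h
  refine ⟨∏ g ∈ G, c g, fun hmem => ?_, ?_⟩
  · obtain ⟨g, -, hg'⟩ := (‹p.IsPrime›).prod_mem_iff.1 hmem
    exact hc g hg'
  intro r
  have hr : r ∈ Algebra.adjoin A (G : Set R) := hG ▸ Algebra.mem_top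
  induction hr using Algebra.adjoin_induction with
  | mem g hg =>
    obtain ⟨a, ha⟩ := hc' g
    refine ⟨1, (∏ x ∈ G.erase g, c x) * a, ?_⟩
    rw [pow_one, ← Finset.mul_prod_erase G c hg, map_mul, map_mul, ← ha]
    ring
  | algebraMap a => exact ⟨0, a, by simp⟩
  | add x y _ _ hx hy =>
    obtain ⟨k, a, ha⟩ := hx
    obtain ⟨l, b, hb⟩ := hy
    refine ⟨k + l, (∏ g ∈ G, c g) ^ l * a + (∏ g ∈ G, c g) ^ k * b, ?_⟩
    rw [map_add, map_add, map_mul, map_mul, ← ha, ← hb, map_pow, map_pow, pow_add]
    ring
  | mul x y _ _ hx hy =>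
    obtain ⟨k, a, ha⟩ := hx
    obtain ⟨l, b, hb⟩ := hy
    refine ⟨k + l, a * b, ?_⟩
    rw [map_mul, map_mul, ← ha, ← hb, pow_add]
    ring

variable [IsDomain A] [IsFractionRing A K]

/-- **Zariski's main theorem, birational form.** A finite type algebra mapped to the fraction field,
with exactly one prime over `p` containing the kernel, lands in a neighbourhood of `p` if `A_p` is
integrally closed. -/
theorem exists_denominator_of_unique_prime (p : Ideal A) [p.IsPrime]
    [IsIntegrallyClosed (Localization.AtPrime p)] (φ : R →ₐ[A] K)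
    (q : Ideal R) [q.IsPrime] (hq : q.comap (algebraMap A R) = p) (hker : RingHom.ker φ ≤ q)
    (huniq : ∀ q' : Ideal R, q'.IsPrime → q'.comap (algebraMap A R) = p → RingHom.ker φ ≤ q' → q' = q) :
    ∃ t : A, t ∉ p ∧ ∀ r : R, ∃ k : ℕ, ∃ a : A, algebraMap A K t ^ k * φ r = algebraMap A K a := by
  let π : R →ₐ[A] φ.range := φ.rangeRestrict
  have hπ : Function.Surjective π := φ.rangeRestrict_surjective
  have hkπ : RingHom.ker π ≤ q := fun x hx => hker (show φ x = 0 from congrArg Subtype.val hx)
  let qB : Ideal φ.range := q.map π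
  have : qB.IsPrime := Ideal.map_isPrime_of_surjective hπ hkπ
  have hqB : qB.comap π = q := by
    rw [Ideal.comap_map_of_surjective _ hπ, sup_eq_left]
    exact hkπ
  have : Algebra.FiniteType A φ.range := .of_surjective π hπ
  have hunder : qB.comap (algebraMap A φ.range) = p := by
    rw [← hq, ← hqB]; ext a
    simp only [Ideal.mem_comap, AlgHom.commutes]
  let qs : PrimeSpectrum φ.range := ⟨qB, ‹_›⟩
  have : Algebra.QuasiFiniteAt A qs.asIdeal := by
    refine Algebra.QuasiFiniteAt.of_isOpen_singleton_fiber qs ?_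
    have : Subsingleton ↥(PrimeSpectrum.comap (algebraMap A φ.range) ⁻¹' {qs.comap (algebraMap A φ.range)}) := by
      have key : ∀ q' : PrimeSpectrum φ.range,
          PrimeSpectrum.comap (algebraMap A φ.range) q' = qs.comap (algebraMap A φ.range) → q' = qs := by
        intro q' hq'
        have h1 : q'.asIdeal.comap π = q := by
          refine huniq _ (Ideal.IsPrime.comap π) ?_ ?_
          · rw [← hunder]
            refine Eq.trans ?_ (congrArg PrimeSpectrum.asIdeal hq')
            ext a
            simp only [Ideal.mem_comap, AlgHom.commutes, PrimeSpectrum.comap_asIdeal]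
          · intro x hx
            show π x ∈ q'.asIdeal
            rw [show π x = 0 from Subtype.ext hx]
            exact q'.asIdeal.zero_mem
        exact PrimeSpectrum.ext (Ideal.comap_injective_of_surjective _ hπ (h1.trans hqB.symm))
      exact ⟨fun a b => Subtype.ext ((key _ a.2).trans (key _ b.2).symm)⟩
    convert isOpen_univ
    exact Set.eq_univ_of_forall fun y => Subsingleton.elim _ _
  have hZ := Algebra.ZariskisMainProperty.of_finiteType (R := A) qB
  rw [Algebra.zariskisMainProperty_iff] at hZ
  obtain ⟨ρ, hρ, hρint, hρx⟩ := hZ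
  -- integral elements are defined at `p`
  have hint : ∀ y : K, IsIntegral A y → ∃ c : A, c ∉ p ∧ ∃ a : A, algebraMap A K c * y = algebraMap A K a := by
    intro y hy
    let := IsLocalization.localizationAlgebraOfSubmonoidLe (Localization.AtPrime p) K p.primeCompl
      (nonZeroDivisors A) p.primeCompl_le_nonZeroDivisors
    have : IsScalarTower A (Localization.AtPrime p) K :=
      IsLocalization.localization_isScalarTower_of_submonoid_le _ _ p.primeCompl (nonZeroDivisors A)
        p.primeCompl_le_nonZeroDivisors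
    have : IsFractionRing (Localization.AtPrime p) K :=
      IsFractionRing.isFractionRing_of_isDomain_of_isLocalization p.primeCompl _ _
    obtain ⟨z, rfl⟩ := IsIntegrallyClosed.isIntegral_iff.1 (hy.tower_top (A := Localization.AtPrime p))
    obtain ⟨⟨a, c⟩, hac⟩ := IsLocalization.surj p.primeCompl z
    refine ⟨c, c.2, a, ?_⟩
    rw [IsScalarTower.algebraMap_apply A (Localization.AtPrime p) K,
      IsScalarTower.algebraMap_apply A (Localization.AtPrime p) K, ← hac, map_mul, mul_comm]
  obtain ⟨c, hc, a, hca⟩ := hint ρ (hρint.map φ.range.val)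
  have ha : a ∉ p := by
    intro ha
    rw [← hunder, Ideal.mem_comap] at ha hc
    rw [show algebraMap A φ.range a = algebraMap A φ.range c * ρ from Subtype.ext hca.symm] at ha
    exact ((‹qB.IsPrime›).mem_or_mem ha).elim hc hρ
  refine exists_denominator p φ fun r => ?_
  obtain ⟨m, hm⟩ := hρx (π r)
  obtain ⟨d, hd, e, hde⟩ := hint _ (hm.map φ.range.val)
  refine ⟨a ^ m * d, fun h => ((‹p.IsPrime›).mem_or_mem h).elim (fun h => ha ((‹p.IsPrime›).mem_of_pow_mem _ h)) hd,
    c ^ m * e, ?_⟩
  have hde' : algebraMap A K d * ((ρ : K) ^ m * φ r) = algebraMap A K e := hde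
  rw [map_mul, map_mul, map_pow, map_pow, ← hca, ← hde']
  ring

end Groth.Agent.Rat20Lib
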